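import Groth.Agent.VarGeom.OpenMap
import Mathlib.AlgebraicGeometry.PullbackCarrier

/-!
# Closures in a fibre product over a field
-/

set_option backward.isDefEq.respectTransparency false

universe u

open CategoryTheory CategoryTheory.Limits AlgebraicGeometry

namespace Groth.Agent.FieldBaseClosure

variable {X Y T : Scheme.{u}} {k : Type u} [Field k]

theorem universallyOpen_to (eT : T ≅ Spec (CommRingCat.of k)) (g : Y ⟶ T) : UniversallyOpen g := by
  haveI : UniversallyOpen (g ≫ eT.hom) := VarGeom.universallyOpen_of_field _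
  have e : g = (g ≫ eT.hom) ≫ eT.inv := by simp
  rw [e]
  infer_instance

theorem mem_closure_fst (eT : T ≅ Spec (CommRingCat.of k)) (f : X ⟶ T) (g : Y ⟶ T) {A : Set X}
    (p : ↑(pullback f g)) (h : pullback.fst f g p ∈ closure A) :
    p ∈ closure (pullback.fst f g ⁻¹' A ∩ pullback.snd f g ⁻¹' {pullback.snd f g p}) := by
  let y := Y.fromSpecResidueField (pullback.snd f g p)
  let m := pullback.map f (y ≫ g) f g (𝟙 X) y (𝟙 T) (by simp) (by simp)
  have hr : Set.range m = pullback.fst f g ⁻¹' Set.range (𝟙 X : X ⟶ X) ∩ pullback.snd f g ⁻¹' Set.range y :=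
    Scheme.Pullback.range_map _ _ _ _ _ _ _ _ _
  obtain ⟨q, hq⟩ : p ∈ Set.range m := by
    rw [hr]
    exact ⟨⟨_, rfl⟩, by rw [Set.mem_preimage, Scheme.range_fromSpecResidueField]; rfl⟩
  have hm : ∀ q, pullback.fst f g (m q) = pullback.fst f (y ≫ g) q := fun q => by
    rw [← Scheme.Hom.comp_apply, pullback.lift_fst]
    rfl
  haveI : UniversallyOpen (y ≫ g) := universallyOpen_to eT _
  have h1 : q ∈ closure (pullback.fst f (y ≫ g) ⁻¹' A) :=
    (pullback.fst f (y ≫ g)).isOpenMap.preimage_closure_subset_closure_preimage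
      (show pullback.fst f (y ≫ g) q ∈ closure A by rw [← hm, hq]; exact h)
  rw [← hq]
  refine map_mem_closure m.continuous h1 fun z hz => ⟨?_, ?_⟩
  · show pullback.fst f g (m z) ∈ A
    rw [hm]; exact hz
  · have : pullback.snd f g (m z) ∈ Set.range y := by
      have h2 : m z ∈ Set.range m := ⟨z, rfl⟩
      rw [hr] at h2
      exact h2.2
    rw [Scheme.range_fromSpecResidueField] at this
    show pullback.snd f g (m z) ∈ ({pullback.snd f g (m q)} : Set Y)
    rw [hq]
    exact this

theorem mem_closure_inter (eT : T ≅ Spec (CommRingCat.of k)) (f : X ⟶ T) (g : Y ⟶ T) {A : Set X} {B : Set Y}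
    (p : ↑(pullback f g)) (h₁ : pullback.fst f g p ∈ closure A) (h₂ : pullback.snd f g p ∈ closure B) :
    p ∈ closure (pullback.fst f g ⁻¹' A ∩ pullback.snd f g ⁻¹' B) := by
  refine closure_minimal (?_ : pullback.fst f g ⁻¹' A ∩ pullback.snd f g ⁻¹' {pullback.snd f g p} ⊆ _)
    isClosed_closure (mem_closure_fst eT f g p h₁)
  intro q hq
  obtain ⟨hqA, hqz⟩ := hq
  let σ := (pullbackSymmetry f g).hom
  have hs1 : ∀ z, pullback.fst g f (σ z) = pullback.snd f g z := fun z => by
    rw [← Scheme.Hom.comp_apply, pullbackSymmetry_hom_comp_fst]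
  have hs2 : ∀ z, pullback.snd g f (σ z) = pullback.fst f g z := fun z => by
    rw [← Scheme.Hom.comp_apply, pullbackSymmetry_hom_comp_snd]
  have h3 := mem_closure_fst eT g f (A := B) (σ q) (by rw [hs1, show pullback.snd f g q = _ from hqz]; exact h₂)
  have h4 := map_mem_closure (pullbackSymmetry f g).inv.continuous h3
    (t := pullback.fst f g ⁻¹' A ∩ pullback.snd f g ⁻¹' B) fun z ⟨hz1, hz2⟩ => ?_
  · rwa [← Scheme.Hom.comp_apply, Iso.hom_inv_id] at h4
  · obtain ⟨w, rfl⟩ : ∃ w, σ w = z := ⟨(pullbackSymmetry f g).inv z, by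
      rw [← Scheme.Hom.comp_apply, Iso.inv_hom_id]; rfl⟩
    rw [← Scheme.Hom.comp_apply, Iso.hom_inv_id]
    refine ⟨?_, ?_⟩
    · show pullback.fst f g w ∈ A
      rw [← hs2, show pullback.snd g f (σ w) = _ from hz2, hs2]
      exact hqA
    · show pullback.snd f g w ∈ B
      rw [← hs1]; exact hz1

end Groth.Agent.FieldBaseClosure
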